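import Groth.Prelude.Def_AutSch
import Groth.Agent.H20Borel.BaseQuot

/-!
# Base change of the automorphism group scheme
-/

set_option autoImplicit false
set_option linter.style.haveILetI false
set_option backward.isDefEq.respectTransparency false

universe u

open CategoryTheory CategoryTheory.Limits MonoidalCategory CartesianMonoidalCategory MonObj AlgebraicGeometry

noncomputable section

namespace Groth.Agent.H29AutSch

variable {S S' : Scheme.{u}} (z : S' ⟶ S) (X : Over S)

/-- A morphism to a base change, seen over the old base. -/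
def down {Y : Over S} {T' : Over S'} (f : T' ⟶ (Over.pullback z).obj Y) : (Over.map z).obj T' ⟶ Y :=
  ((Over.mapPullbackAdj z).homEquiv T' Y).symm f

theorem down_injective {Y : Over S} {T' : Over S'} :
    Function.Injective (down z (Y := Y) (T' := T')) :=
  ((Over.mapPullbackAdj z).homEquiv T' Y).symm.injective

theorem down_surjective {Y : Over S} {T' : Over S'} :
    Function.Surjective (down z (Y := Y) (T' := T')) :=
  ((Over.mapPullbackAdj z).homEquiv T' Y).symm.surjective

theorem down_comp_left {Y : Over S} {T' T'' : Over S'} (u : T'' ⟶ T') (f : T' ⟶ (Over.pullback z).obj Y) :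
    down z (u ≫ f) = (Over.map z).map u ≫ down z f :=
  (Over.mapPullbackAdj z).homEquiv_naturality_left_symm u f

theorem down_comp_right {Y Y' : Over S} {T' : Over S'} (f : T' ⟶ (Over.pullback z).obj Y) (h : Y ⟶ Y') :
    down z (f ≫ (Over.pullback z).map h) = down z f ≫ h :=
  (Over.mapPullbackAdj z).homEquiv_naturality_right_symm f h

theorem down_left {Y : Over S} {T' : Over S'} (f : T' ⟶ (Over.pullback z).obj Y) :
    (down z f).left = f.left ≫ pullback.fst Y.hom z := by
  simp [down, Adjunction.homEquiv_counit]

theorem down_lift {Y Y' : Over S} {T' : Over S'} (f : T' ⟶ (Over.pullback z).obj Y)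
    (g : T' ⟶ (Over.pullback z).obj Y') :
    down z (lift f g ≫ Functor.LaxMonoidal.μ (Over.pullback z) Y Y') = lift (down z f) (down z g) := by
  refine CartesianMonoidalCategory.hom_ext _ _ ?_ ?_
  · rw [lift_fst, ← down_comp_right, Category.assoc, Functor.Monoidal.μ_fst, lift_fst]
  · rw [lift_snd, ← down_comp_right, Category.assoc, Functor.Monoidal.μ_snd, lift_snd]

/-- The comparison `X_{S'} ×_{S'} T' ≅ X ×_S T'`. -/
def psi (T' : Over S') : (Over.map z).obj ((Over.pullback z).obj X ⊗ T') ⟶ X ⊗ (Over.map z).obj T' :=
  lift (down z (fst ((Over.pullback z).obj X) T')) ((Over.map z).map (snd ((Over.pullback z).obj X) T'))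

instance isIso_psi (T' : Over S') : IsIso (psi z X T') := by
  have h : IsIso (psi z X T').left := by
    have e1 : (psi z X T').left ≫ pullback.fst X.hom (T'.hom ≫ z) =
        pullback.fst (pullback.snd X.hom z) T'.hom ≫ pullback.fst X.hom z := by
      have := congrArg (·.left) (lift_fst (down z (fst ((Over.pullback z).obj X) T'))
        ((Over.map z).map (snd ((Over.pullback z).obj X) T')))
      rw [down_left] at this
      exact this
    have e2 : (psi z X T').left ≫ pullback.snd X.hom (T'.hom ≫ z) = pullback.snd (pullback.snd X.hom z) T'.hom :=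
      congrArg (·.left) (lift_snd (down z (fst ((Over.pullback z).obj X) T'))
        ((Over.map z).map (snd ((Over.pullback z).obj X) T')))
    have : (psi z X T').left = (pullbackLeftPullbackSndIso X.hom z T'.hom).hom :=
      pullback.hom_ext (e1.trans (pullbackLeftPullbackSndIso_hom_fst _ _ _).symm)
        (e2.trans (pullbackLeftPullbackSndIso_hom_snd _ _ _).symm)
    rw [this]
    exact inferInstanceAs (IsIso (pullbackLeftPullbackSndIso X.hom z T'.hom).hom)
  haveI := h
  haveI : IsIso ((Over.forget S).map (psi z X T')) := h
  exact isIso_of_reflects_iso _ (Over.forget S)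

variable {X} {G : Over S} [GrpObj G]

theorem down_famOf (a : AlgGrp.Action G X) {T' : Over S'} (g : T' ⟶ (Over.pullback z).obj G) :
    down z (AutSch.famOf (H20Borel.bcAct z a) g) = psi z X T' ≫ AutSch.famOf a (down z g) := by
  rw [AutSch.famOf, H20Borel.bcAct, ← Category.assoc, down_comp_right, down_lift, AutSch.famOf,
    comp_lift_assoc, ← Category.assoc (psi z X T'), psi, lift_snd, lift_fst, down_comp_left]

theorem represents_bc (a : AlgGrp.Action G X) (hG : AutSch.Represents X G a) :
    AutSch.Represents ((Over.pullback z).obj X) ((Over.pullback z).obj G) (H20Borel.bcAct z a) := by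
  rw [AutSch.represents_iff] at hG ⊢
  intro T' φ' hφ'
  let φ : X ⊗ (Over.map z).obj T' ⟶ X := inv (psi z X T') ≫ down z φ'
  have hφ : AutSch.IsAutFamily φ := by
    haveI : IsIso (AutSch.endOf φ') := hφ'
    have he : AutSch.endOf φ = inv (psi z X T') ≫ (Over.map z).map (AutSch.endOf φ') ≫ psi z X T' := by
      refine CartesianMonoidalCategory.hom_ext _ _ ?_ ?_
      · rw [AutSch.endOf_fst, Category.assoc, Category.assoc]; unfold psi; rw [lift_fst, ← down_comp_left,
          AutSch.endOf_fst]
        rfl
      · rw [AutSch.endOf_snd, Category.assoc, Category.assoc, IsIso.eq_inv_comp]; unfold psi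
        rw [lift_snd, ← Functor.map_comp, AutSch.endOf_snd]
    rw [AutSch.IsAutFamily, he]
    infer_instance
  obtain ⟨g, hg, hu⟩ := hG _ φ hφ
  obtain ⟨g', hg'⟩ := down_surjective z (T' := T') g
  refine ⟨g', down_injective z ?_, fun g'' hg'' => down_injective z (hg'.symm ▸ hu _ ?_)⟩
  · rw [down_famOf, hg', hg]
    exact IsIso.hom_inv_id_assoc _ _
  · show AutSch.famOf a _ = inv (psi z X T') ≫ down z φ'
    rw [IsIso.eq_inv_comp, ← down_famOf]
    exact congrArg (down z) hg''

end Groth.Agent.H29AutSch
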