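import Groth.Agent.H29AutSch.BaseChange
import Groth.Agent.H29CurveDual.CanonAux
import Groth.Agent.H19Grp.UnramifiedFibres
import Groth.Agent.H17.PrinOmega
import Groth.Agent.S17831
import Groth.Agent.H11Proj.Finite

/-!
# Vanishing of vector fields on curves of genus at least two
-/

set_option autoImplicit false
set_option linter.style.haveILetI false
set_option backward.isDefEq.respectTransparency false

universe u

open CategoryTheory CategoryTheory.Limits MonoidalCategory CartesianMonoidalCategory MonObj AlgebraicGeometry

namespace Groth.Agent.H29AutSch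

open Groth.Agent.H29CurveDual Groth.Agent.H29RR

attribute [local instance 10000] H10Coh.hasSheafifyAb H10Coh.hasWeakSheafifyAb H10Coh.hasExtAb H10Coh.enoughInjAb

/-- A curve of genus at least two has no vector fields. -/
theorem der_eq_zero {k : Type u} [Field k] {C : Scheme.{u}} (q : C ⟶ Spec (CommRingCat.of k))
    [IsProper q] [Smooth q] [GeometricallyConnected q] (hdim : topologicalKrullDim C = 1)
    (hg : 2 ≤ (letI : C.Over (Spec (CommRingCat.of k)) := ⟨q⟩; Curv2.genus k C))
    (D : OmegaSh.Der q (Coh.structureModule C)) (U : C.Opens) (s : Γ(C, U)) : D.app U s = 0 := by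
  letI : C.Over (Spec (CommRingCat.of k)) := ⟨q⟩
  haveI : IsProper (C ↘ Spec (CommRingCat.of k)) := ‹IsProper q›
  haveI : Smooth (C ↘ Spec (CommRingCat.of k)) := ‹Smooth q›
  haveI : GeometricallyConnected (C ↘ Spec (CommRingCat.of k)) := ‹GeometricallyConnected q›
  haveI : IsIntegral C := isIntegral_of_geomConnected k C
  obtain ⟨α, hα, -⟩ := H17.PrinOmega.isUniversal_dOmega (f := q) (Coh.structureModule C) D
  have hΩ := isInvertible_omega_curve (k := k) hdim
  have hd := deg_omega_of_h0 (k := k) hdim finrank_h0_structure_smooth
  have h0 : α = 0 := hom_eq_zero_of_deg (k := k) hdim.le hΩ (H11Proj.isInvertible_structureModule)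
    (by rw [deg_structureModule]; change _ < Curv2.deg k C (Omega.sheaf (C ↘ Spec (CommRingCat.of k))) 1; omega) α
  rw [← congrArg (fun D' : OmegaSh.Der q _ => D'.app U s) hα, h0]
  rfl

/-- The automorphism scheme of a family of curves of genus at least two is formally unramified. -/
theorem formallyUnramified_aut {S : Scheme.{u}} (X : Over S) [IsProper X.hom] [Smooth X.hom]
    [GeometricallyConnected X.hom] (hdim : ∀ s : S, topologicalKrullDim ↥(X.hom.fiber s) = 1) (g : ℕ)
    (hg : 2 ≤ g)
    (hgen : ∀ s : S, letI : (X.hom.fiber s).Over (Spec (S.residueField s)) := ⟨X.hom.fiberToSpecResidueField s⟩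
      Curv2.genus (S.residueField s) (X.hom.fiber s) = g)
    (G : Over S) [GrpObj G] [LocallyOfFiniteType G.hom]
    (a : AlgGrp.Action G X) (hG : AutSch.Represents X G a) : FormallyUnramified G.hom := by
  refine H19Grp.formallyUnramified_of_fibres G.hom fun s => ?_
  let z : Spec (CommRingCat.of (S.residueField s)) ⟶ S := S.fromSpecResidueField s
  letI : GrpObj ((Over.pullback z).obj G) := Functor.grpObjObj
  haveI : IsProper ((Over.pullback z).obj X).hom := MorphismProperty.pullback_snd X.hom z inferInstance
  haveI : Smooth ((Over.pullback z).obj X).hom := MorphismProperty.pullback_snd X.hom z inferInstance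
  haveI : GeometricallyConnected ((Over.pullback z).obj X).hom :=
    MorphismProperty.pullback_snd X.hom z inferInstance
  haveI : LocallyOfFiniteType ((Over.pullback z).obj G).hom :=
    MorphismProperty.pullback_snd G.hom z inferInstance
  exact (S17831.result (S.residueField s) ((Over.pullback z).obj X) (hdim s).le
    ((Over.pullback z).obj G) (H20Borel.bcAct z a) (represents_bc z a hG)).2
    fun D U t => der_eq_zero ((Over.pullback z).obj X).hom (hdim s) (hg.trans_eq (hgen s).symm) D U t

end Groth.Agent.H29AutSch
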